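import Mathlib
import Cfsg.Agent.Lib.Lead.Ami.Defs

/-!
# AMI package [GAUSS] (helper2): `4 N² Φ_l = Y² + l Z²` in `ℤ[X]` for a prime `l ≡ 3 (mod 4)`.
-/

namespace Cfsg.Agent.Lib.Helper2.Ami

open Polynomial Finset

section

variable (l : ℕ) [Fact l.Prime]

/-- the additive character sends sums to products -/
theorem addChar_sum (ψ : AddChar (ZMod l) ℂ) (U : Finset (ZMod l)) (f : ZMod l → ZMod l) :
    ψ (∑ i ∈ U, f i) = ∏ i ∈ U, ψ (f i) := by
  classical
  induction U using Finset.induction_on with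
  | empty => simp
  | insert a s ha ih => rw [Finset.sum_insert ha, Finset.prod_insert ha, AddChar.map_add_eq_mul, ih]

/-- expansion of `∏ (X - ψ(r a))` over a finite set -/
theorem expand_prod (ψ : AddChar (ZMod l) ℂ) (Q : Finset (ZMod l)) (r : ZMod l) :
    ∏ a ∈ Q, ((X : ℂ[X]) - C (ψ (r * a)))
      = ∑ U ∈ Q.powerset, (-1) ^ #U * X ^ #(Q \ U) * C (ψ (r * ∑ i ∈ U, i)) := by
  classical
  rw [Finset.prod_sub]
  refine Finset.sum_congr rfl (fun U _ => ?_)
  rw [Finset.prod_const, Finset.mul_sum, addChar_sum, map_prod]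

/-- weighted sums of the products -/
theorem weighted_expand (ψ : AddChar (ZMod l) ℂ) (Q : Finset (ZMod l)) (w : ZMod l → ℂ) :
    ∑ r, C (w r) * ∏ a ∈ Q, ((X : ℂ[X]) - C (ψ (r * a)))
      = ∑ U ∈ Q.powerset, (-1) ^ #U * X ^ #(Q \ U) * C (∑ r, w r * ψ (r * ∑ i ∈ U, i)) := by
  classical
  simp_rw [expand_prod, Finset.mul_sum]
  rw [Finset.sum_comm]
  refine Finset.sum_congr rfl (fun U _ => ?_)
  rw [map_sum, Finset.mul_sum]
  refine Finset.sum_congr rfl (fun r _ => ?_)
  rw [map_mul]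
  ring


/-- the complex quadratic character is non-trivial -/
theorem chiC_ne_one (h2 : l ≠ 2) :
    (quadraticChar (ZMod l)).ringHomComp (Int.castRingHom ℂ) ≠ 1 :=
  (MulChar.ringHomComp_ne_one_iff (RingHom.injective_int _)).mpr
    (quadraticChar_ne_one (by rw [ZMod.ringChar_zmod_n]; exact h2))

theorem chiC_sq (r : ZMod l) (hr : r ≠ 0) :
    ((quadraticChar (ZMod l)).ringHomComp (Int.castRingHom ℂ) r) ^ 2 = 1 := by
  rw [MulChar.ringHomComp_apply, ← map_pow, quadraticChar_sq_one hr, map_one]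

/-- twisted Gauss sums -/
theorem chi_sum (h2 : l ≠ 2) (b : ZMod l) :
    ∑ r, (quadraticChar (ZMod l)).ringHomComp (Int.castRingHom ℂ) r *
        ZMod.stdAddChar (N := l) (r * b)
      = (quadraticChar (ZMod l)).ringHomComp (Int.castRingHom ℂ) b *
        gaussSum ((quadraticChar (ZMod l)).ringHomComp (Int.castRingHom ℂ))
          (ZMod.stdAddChar (N := l)) := by
  set χ := (quadraticChar (ZMod l)).ringHomComp (Int.castRingHom ℂ) with hχ
  set ψ := ZMod.stdAddChar (N := l) with hψ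
  by_cases hb : b = 0
  · subst hb
    simp only [mul_zero, AddChar.map_zero_eq_one, mul_one, MulChar.map_zero, zero_mul]
    exact MulChar.sum_eq_zero_of_ne_one (chiC_ne_one l h2)
  · have hu := gaussSum_mulShift χ ψ (Units.mk0 b hb)
    have hG : gaussSum χ (AddChar.mulShift ψ (Units.mk0 b hb)) = ∑ r, χ r * ψ (r * b) := by
      unfold gaussSum
      refine Finset.sum_congr rfl (fun r _ => ?_)
      rw [AddChar.mulShift_apply, Units.val_mk0, mul_comm b r]
    rw [← hG, ← hu, ← mul_assoc, Units.val_mk0, ← pow_two, chiC_sq l b hb, one_mul]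

/-- the sum over non-zero `r` -/
theorem chi_sq_sum (b : ZMod l) :
    ∑ r, ((quadraticChar (ZMod l)).ringHomComp (Int.castRingHom ℂ) r) ^ 2 *
        ZMod.stdAddChar (N := l) (r * b)
      = (if b = 0 then (l : ℂ) else 0) - 1 := by
  classical
  have h1 := AddChar.sum_mulShift b (ZMod.isPrimitive_stdAddChar l)
  have h2 : ∀ r : ZMod l, ZMod.stdAddChar (N := l) (r * b)
      = ((quadraticChar (ZMod l)).ringHomComp (Int.castRingHom ℂ) r) ^ 2 *
        ZMod.stdAddChar (N := l) (r * b) + (if r = 0 then 1 else 0) := by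
    intro r
    by_cases hr : r = 0
    · subst hr; simp
    · rw [chiC_sq l r hr]; simp [hr]
  rw [Finset.sum_congr rfl (fun r _ => h2 r), Finset.sum_add_distrib, Finset.sum_ite_eq'] at h1
  simp only [Finset.mem_univ, if_true, ZMod.card] at h1
  rw [eq_sub_of_add_eq h1]
  split_ifs <;> simp

/-- the square of the Gauss sum -/
theorem gauss_sq (h4 : l % 4 = 3) :
    gaussSum ((quadraticChar (ZMod l)).ringHomComp (Int.castRingHom ℂ))
      (ZMod.stdAddChar (N := l)) ^ 2 = -(l : ℂ) := by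
  have h2 : l ≠ 2 := by rintro rfl; simp at h4
  have hF : ringChar (ZMod l) ≠ 2 := by rw [ZMod.ringChar_zmod_n]; exact h2
  rw [gaussSum_sq (chiC_ne_one l h2) ((quadraticChar_isQuadratic (ZMod l)).comp _)
    (ZMod.isPrimitive_stdAddChar l)]
  rw [MulChar.ringHomComp_apply, quadraticChar_neg_one hF, ZMod.card,
    ZMod.χ₄_nat_three_mod_four h4]
  simp

/-- the cyclotomic polynomial as a product over the non-zero residues -/
theorem cyclo_prod :
    cyclotomic l ℂ
      = ∏ a ∈ (univ : Finset (ZMod l)).erase 0, (X - C (ZMod.stdAddChar (N := l) a)) := by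
  classical
  have hl : l.Prime := Fact.out
  have hprim : ∀ a : ZMod l, a ≠ 0 → IsPrimitiveRoot (ZMod.stdAddChar (N := l) a) l := by
    intro a ha
    have h1 : ZMod.stdAddChar (N := l) a ^ l = 1 := by
      rw [← AddChar.map_nsmul_eq_pow]; simp
    have h2 : ZMod.stdAddChar (N := l) a ≠ 1 := by
      intro h
      apply ha
      apply ZMod.injective_stdAddChar
      rw [h, AddChar.map_zero_eq_one]
    have := IsPrimitiveRoot.orderOf (ZMod.stdAddChar (N := l) a)
    rwa [orderOf_eq_prime h1 h2] at this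
  have himg : ((univ : Finset (ZMod l)).erase 0).image (ZMod.stdAddChar (N := l))
      = primitiveRoots l ℂ := by
    apply Finset.eq_of_subset_of_card_le
    · intro z hz
      obtain ⟨a, ha, rfl⟩ := Finset.mem_image.mp hz
      exact (mem_primitiveRoots hl.pos).mpr (hprim a (Finset.ne_of_mem_erase ha))
    · rw [Finset.card_image_of_injective _ ZMod.injective_stdAddChar,
        (hprim 1 one_ne_zero).card_primitiveRoots, Nat.totient_prime hl,
        Finset.card_erase_of_mem (Finset.mem_univ _), Finset.card_univ, ZMod.card]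
  rw [cyclotomic_eq_prod_X_sub_primitiveRoots (hprim 1 one_ne_zero), ← himg,
    Finset.prod_image (fun a _ b _ h => ZMod.injective_stdAddChar h)]

/-- reindexing along multiplication by `r` -/
theorem prod_shift {M : Type*} [CommMonoid M] (f : ZMod l → M) (r : ZMod l) (e : ℤ)
    (he : e = 1 ∨ e = -1) (hr : quadraticChar (ZMod l) r = e) :
    ∏ a ∈ univ.filter (fun a => quadraticChar (ZMod l) a = 1), f (r * a)
      = ∏ a ∈ univ.filter (fun a => quadraticChar (ZMod l) a = e), f a := by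
  classical
  have hr0 : r ≠ 0 := by
    rintro rfl
    rw [MulChar.map_zero] at hr
    rcases he with h | h <;> omega
  have hee : e * e = 1 := by rcases he with h | h <;> subst h <;> norm_num
  have hinv : quadraticChar (ZMod l) r⁻¹ = e := by
    have h1 : quadraticChar (ZMod l) r⁻¹ * quadraticChar (ZMod l) r = 1 := by
      rw [← map_mul, inv_mul_cancel₀ hr0, map_one]
    rw [hr] at h1
    calc quadraticChar (ZMod l) r⁻¹ = quadraticChar (ZMod l) r⁻¹ * (e * e) := by
          rw [hee, mul_one]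
      _ = (quadraticChar (ZMod l) r⁻¹ * e) * e := by ring
      _ = e := by rw [h1, one_mul]
  refine Finset.prod_nbij' (fun a => r * a) (fun a => r⁻¹ * a) ?_ ?_ ?_ ?_ ?_
  · intro a ha
    rw [Finset.mem_filter] at ha ⊢
    refine ⟨Finset.mem_univ _, ?_⟩
    rw [map_mul, hr, ha.2, mul_one]
  · intro a ha
    rw [Finset.mem_filter] at ha ⊢
    refine ⟨Finset.mem_univ _, ?_⟩
    rw [map_mul, hinv, ha.2, hee]
  · intro a _
    show r⁻¹ * (r * a) = a
    rw [← mul_assoc, inv_mul_cancel₀ hr0, one_mul]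
  · intro a _
    show r * (r⁻¹ * a) = a
    rw [← mul_assoc, mul_inv_cancel₀ hr0, one_mul]
  · intro a _; rfl

/-- as many squares as non-squares -/
theorem card_sq_eq (h2 : l ≠ 2) :
    #(univ.filter (fun a : ZMod l => quadraticChar (ZMod l) a = 1))
      = #(univ.filter (fun a : ZMod l => quadraticChar (ZMod l) a = -1)) := by
  classical
  have hs := quadraticChar_sum_zero (F := ZMod l) (by rw [ZMod.ringChar_zmod_n]; exact h2)
  have h : ∀ a : ZMod l, quadraticChar (ZMod l) a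
      = (if quadraticChar (ZMod l) a = 1 then (1 : ℤ) else 0)
        - (if quadraticChar (ZMod l) a = -1 then 1 else 0) := by
    intro a
    rcases quadraticChar_isQuadratic (ZMod l) a with h | h | h <;> rw [h] <;> norm_num
  rw [Finset.sum_congr rfl (fun a _ => h a), Finset.sum_sub_distrib, Finset.sum_boole,
    Finset.sum_boole] at hs
  exact_mod_cast sub_eq_zero.mp hs


/-- Gauss: `4 N² Φ_l = Y² + l Z²` with `N = (l - 1) / 2` the number of non-zero squares. -/
theorem gauss_main (h4 : l % 4 = 3) : ∃ (N : ℕ) (Y Z : Polynomial ℤ), N ≠ 0 ∧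
    (C (4 * (N : ℤ) ^ 2)) * cyclotomic l ℤ = Y ^ 2 + (C (l : ℤ)) * Z ^ 2 := by
  classical
  have h2 : l ≠ 2 := by rintro rfl; simp at h4
  set χ := quadraticChar (ZMod l) with hχ
  set χC := χ.ringHomComp (Int.castRingHom ℂ) with hχC
  set ψ := ZMod.stdAddChar (N := l) with hψ
  set g := gaussSum χC ψ with hg
  have hquad : ∀ r, χ r = 0 ∨ χ r = 1 ∨ χ r = -1 := quadraticChar_isQuadratic (ZMod l)
  have hχ0 : χ 0 = 0 := MulChar.map_zero _
  have hχ1 : χ 1 = 1 := map_one _
  have hdich : ∀ a : ZMod l, a ≠ 0 → χ a = 1 ∨ χ a = -1 := fun a ha => quadraticChar_dichotomy ha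
  have hcast : ∀ r, χC r = ((χ r : ℤ) : ℂ) := fun r => rfl
  have hchi : ∀ b, ∑ r, χC r * ψ (r * b) = χC b * g := fun b => chi_sum l h2 b
  have hchi2 : ∀ b, ∑ r, χC r ^ 2 * ψ (r * b) = (if b = 0 then (l : ℂ) else 0) - 1 :=
    fun b => chi_sq_sum l b
  have hgg : g ^ 2 = -(l : ℂ) := gauss_sq l h4
  have hshift : ∀ (r : ZMod l) (e : ℤ), (e = 1 ∨ e = -1) → χ r = e →
      ∏ a ∈ univ.filter (fun a => χ a = 1), ((X : ℂ[X]) - C (ψ (r * a)))
        = ∏ a ∈ univ.filter (fun a => χ a = e), ((X : ℂ[X]) - C (ψ a)) :=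
    fun r e he hr => prod_shift l (fun a => (X : ℂ[X]) - C (ψ a)) r e he hr
  have hcyc0 : cyclotomic l ℂ = ∏ a ∈ (univ : Finset (ZMod l)).erase 0, (X - C (ψ a)) :=
    cyclo_prod l
  have hcard0 : #(univ.filter (fun a : ZMod l => χ a = 1))
      = #(univ.filter (fun a : ZMod l => χ a = -1)) := card_sq_eq l h2
  have hwexp : ∀ (Q : Finset (ZMod l)) (w : ZMod l → ℂ),
      ∑ r, C (w r) * ∏ a ∈ Q, ((X : ℂ[X]) - C (ψ (r * a)))
        = ∑ U ∈ Q.powerset, (-1) ^ #U * X ^ #(Q \ U) * C (∑ r, w r * ψ (r * ∑ i ∈ U, i)) :=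
    fun Q w => weighted_expand l ψ Q w
  clear_value g ψ χC χ
  set Q := univ.filter (fun a : ZMod l => χ a = 1) with hQ
  set Nn := univ.filter (fun a : ZMod l => χ a = -1) with hNn
  refine ⟨#Q,
    ∑ U ∈ Q.powerset, (-1) ^ #U * X ^ #(Q \ U) *
      C ((if (∑ i ∈ U, i) = 0 then (l : ℤ) else 0) - 1),
    ∑ U ∈ Q.powerset, (-1) ^ #U * X ^ #(Q \ U) * C (χ (∑ i ∈ U, i)), ?_, ?_⟩
  · have : (1 : ZMod l) ∈ Q := by
      rw [hQ, Finset.mem_filter]; exact ⟨Finset.mem_univ _, hχ1⟩
    exact Finset.card_ne_zero_of_mem this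
  · apply Polynomial.map_injective (Int.castRingHom ℂ) (RingHom.injective_int _)
    set Fp : ℂ[X] := ∏ a ∈ Q, (X - C (ψ a)) with hFp
    set Fm : ℂ[X] := ∏ a ∈ Nn, (X - C (ψ a)) with hFm
    set Yc : ℂ[X] := ∑ U ∈ Q.powerset, (-1) ^ #U * X ^ #(Q \ U) *
      C ((if (∑ i ∈ U, i) = 0 then (l : ℂ) else 0) - 1) with hYc
    set Zc : ℂ[X] := ∑ U ∈ Q.powerset, (-1) ^ #U * X ^ #(Q \ U) * C (χC (∑ i ∈ U, i))
      with hZc
    have hmapY : (∑ U ∈ Q.powerset, (-1) ^ #U * X ^ #(Q \ U) *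
        C ((if (∑ i ∈ U, i) = 0 then (l : ℤ) else 0) - 1) : ℤ[X]).map (Int.castRingHom ℂ)
          = Yc := by
      rw [hYc, Polynomial.map_sum]
      refine Finset.sum_congr rfl (fun U _ => ?_)
      simp only [Polynomial.map_mul, Polynomial.map_pow, Polynomial.map_neg, Polynomial.map_one,
        Polynomial.map_X, Polynomial.map_C]
      congr 2
      split_ifs <;> simp
    have hmapZ : (∑ U ∈ Q.powerset, (-1) ^ #U * X ^ #(Q \ U) * C (χ (∑ i ∈ U, i)) :
        ℤ[X]).map (Int.castRingHom ℂ) = Zc := by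
      rw [hZc, Polynomial.map_sum]
      refine Finset.sum_congr rfl (fun U _ => ?_)
      simp only [Polynomial.map_mul, Polynomial.map_pow, Polynomial.map_neg, Polynomial.map_one,
        Polynomial.map_X, Polynomial.map_C]
      rw [hcast]; rfl
    have hP1 : ∀ r : ZMod l, χ r = 1 → ∏ a ∈ Q, ((X : ℂ[X]) - C (ψ (r * a))) = Fp :=
      fun r hr => hshift r 1 (Or.inl rfl) hr
    have hPm : ∀ r : ZMod l, χ r = -1 → ∏ a ∈ Q, ((X : ℂ[X]) - C (ψ (r * a))) = Fm :=
      fun r hr => hshift r (-1) (Or.inr rfl) hr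
    have hL1 : ∑ r, C (χC r ^ 2 + χC r) * ∏ a ∈ Q, ((X : ℂ[X]) - C (ψ (r * a)))
        = C (2 * (#Q : ℂ)) * Fp := by
      have hterm : ∀ r : ZMod l, C (χC r ^ 2 + χC r) * ∏ a ∈ Q, ((X : ℂ[X]) - C (ψ (r * a)))
          = if χ r = 1 then C 2 * Fp else 0 := by
        intro r
        rcases hquad r with h | h | h
        · rw [hcast, h]; simp
        · rw [hcast, h, hP1 r h, if_pos rfl]; norm_num
        · rw [hcast, h]; norm_num
      rw [Finset.sum_congr rfl (fun r _ => hterm r), ← Finset.sum_filter, Finset.sum_const, ← hQ,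
        nsmul_eq_mul, map_mul, map_natCast]
      simp only [map_ofNat]
      ring
    have hL2 : ∑ r, C (χC r ^ 2 - χC r) * ∏ a ∈ Q, ((X : ℂ[X]) - C (ψ (r * a)))
        = C (2 * (#Nn : ℂ)) * Fm := by
      have hterm : ∀ r : ZMod l, C (χC r ^ 2 - χC r) * ∏ a ∈ Q, ((X : ℂ[X]) - C (ψ (r * a)))
          = if χ r = -1 then C 2 * Fm else 0 := by
        intro r
        rcases hquad r with h | h | h
        · rw [hcast, h]; simp
        · rw [hcast, h]; norm_num
        · rw [hcast, h, hPm r h, if_pos rfl]; norm_num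
      rw [Finset.sum_congr rfl (fun r _ => hterm r), ← Finset.sum_filter, Finset.sum_const, ← hNn,
        nsmul_eq_mul, map_mul, map_natCast]
      simp only [map_ofNat]
      ring
    have hE1 : ∑ r, C (χC r ^ 2 + χC r) * ∏ a ∈ Q, ((X : ℂ[X]) - C (ψ (r * a)))
        = Yc + C g * Zc := by
      rw [hwexp, hYc, hZc, Finset.mul_sum, ← Finset.sum_add_distrib]
      refine Finset.sum_congr rfl (fun U _ => ?_)
      have hs : ∑ r, (χC r ^ 2 + χC r) * ψ (r * ∑ i ∈ U, i)
          = ((if (∑ i ∈ U, i) = 0 then (l : ℂ) else 0) - 1) + g * χC (∑ i ∈ U, i) := by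
        simp_rw [add_mul]
        rw [Finset.sum_add_distrib, hchi2, hchi, mul_comm g]
      rw [hs, map_add, map_mul]; ring
    have hE2 : ∑ r, C (χC r ^ 2 - χC r) * ∏ a ∈ Q, ((X : ℂ[X]) - C (ψ (r * a)))
        = Yc - C g * Zc := by
      rw [hwexp, hYc, hZc, Finset.mul_sum, ← Finset.sum_sub_distrib]
      refine Finset.sum_congr rfl (fun U _ => ?_)
      have hs : ∑ r, (χC r ^ 2 - χC r) * ψ (r * ∑ i ∈ U, i)
          = ((if (∑ i ∈ U, i) = 0 then (l : ℂ) else 0) - 1) - g * χC (∑ i ∈ U, i) := by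
        simp_rw [sub_mul]
        rw [Finset.sum_sub_distrib, hchi2, hchi, mul_comm g]
      rw [hs, map_sub, map_mul]; ring
    have hcyc : Fp * Fm = cyclotomic l ℂ := by
      rw [hcyc0, hFp, hFm, ← Finset.prod_union]
      · congr 1
        ext a
        simp only [hQ, hNn, Finset.mem_union, Finset.mem_filter, Finset.mem_univ, true_and,
          Finset.mem_erase, and_true]
        constructor
        · rintro (h | h) <;> (rintro rfl; rw [hχ0] at h; omega)
        · intro ha; exact hdich a ha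
      · rw [hQ, hNn]
        exact Finset.disjoint_filter.mpr (fun a _ h1 h2 => by rw [h1] at h2; omega)
    have hcard : #Nn = #Q := hcard0.symm
    have k1 : C (2 * (#Q : ℂ)) * Fp = Yc + C g * Zc := hL1.symm.trans hE1
    have k2 : C (2 * (#Nn : ℂ)) * Fm = Yc - C g * Zc := hL2.symm.trans hE2
    have hC : (C ((Int.castRingHom ℂ) (4 * (#Q : ℤ) ^ 2)) : ℂ[X])
        = C (2 * (#Q : ℂ)) * C (2 * (#Q : ℂ)) := by
      rw [← map_mul, eq_intCast]; congr 1; push_cast; ring
    have hCl : (C ((Int.castRingHom ℂ) (l : ℤ)) : ℂ[X]) = C (l : ℂ) := by simp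
    rw [Polynomial.map_mul, Polynomial.map_add, Polynomial.map_pow, Polynomial.map_mul,
      Polynomial.map_pow, hmapY, hmapZ, map_cyclotomic, Polynomial.map_C, Polynomial.map_C,
      hC, hCl, ← hcyc]
    calc C (2 * (#Q : ℂ)) * C (2 * (#Q : ℂ)) * (Fp * Fm)
        = (C (2 * (#Q : ℂ)) * Fp) * (C (2 * (#Nn : ℂ)) * Fm) := by rw [hcard]; ring
      _ = (Yc + C g * Zc) * (Yc - C g * Zc) := by rw [k1, k2]
      _ = Yc ^ 2 - C (g ^ 2) * Zc ^ 2 := by rw [map_pow]; ring
      _ = Yc ^ 2 + C (l : ℂ) * Zc ^ 2 := by rw [hgg, map_neg]; ring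

end

/-- AMI package [GAUSS]. -/
theorem pkgGauss : Cfsg.Agent.Lib.Lead.Ami.PkgGauss := by
  intro l hl h4
  have : Fact l.Prime := ⟨hl⟩
  exact gauss_main l h4

end Cfsg.Agent.Lib.Helper2.Ami
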